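/-
S5815: the pieces `SPL`, `WD`, `KT`, `RS`, `DT`.
-/
import Cfsg.Agent.H10.O7.A
import Cfsg.Agent.H26.O7S
import Cfsg.Agent.H29.BB1

set_option autoImplicit false
set_option linter.unusedSectionVars false
set_option linter.unusedVariables false

open Module QuadraticMap H12 Cfsg MatrixGroups Subgroup H26.O7 H11.O7
namespace H10.O7
universe u v

variable {K : Type u} [Field K] {G : Type v} [Group G]

/-- the preimage in the spin group -/
def Gm (R : Rp K G) : Subgroup (G × Au K (S K)) where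
  carrier := {x | Lift (R.ρ x.1) x.2}
  one_mem' := by simpa using lift_one
  mul_mem' h k := by simpa using h.mul k
  inv_mem' h := by simpa using h.inv

theorem spl : SPL.{u, v} := by
  intro K _ _ G _ _ R m pf o h
  choose c hc using ex_lift R
  have : Finite (Gm R) := Finite.of_surjective (fun x : G × Bool => if x.2 then (⟨(x.1, c x.1), hc _⟩ : Gm R) else ⟨(x.1, _), (hc _).neg⟩)
    fun x => (lift_uniq R.two (hc _) x.2).elim (fun e => ⟨(x.1.1, true), Subtype.ext (Prod.ext rfl e.symm)⟩)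
      fun e => ⟨(x.1.1, false), Subtype.ext (Prod.ext rfl e.symm)⟩
  let π : Gm R →* G := (MonoidHom.fst _ _).comp (Gm R).subtype
  have k : ∀ x, π x = 1 → x * x = 1 ∧ ∀ y, y * x = x * y := fun ⟨⟨g, b⟩, l⟩ e => by
    obtain rfl : g = 1 := e
    rcases lift_uniq R.two lift_one (map_one R.ρ ▸ (show Lift (R.ρ 1) b from l)) with e | e <;> obtain rfl : b = _ := e
    · exact ⟨mul_one (1 : Gm R), fun y => (mul_one y).trans (one_mul y).symm⟩
    · exact ⟨Subtype.ext (Prod.ext (mul_one 1) (LinearEquiv.ext fun s => neg_neg s)), fun y => Subtype.ext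
        (Prod.ext ((mul_one _).trans (one_mul _).symm) (LinearEquiv.ext fun s => map_neg y.1.2 s))⟩
  have s1 : ∀ g, ∃ x ∈ commutator (Gm R), π x = g := fun g => by
    have := map_commutator (H₁ := ⊤) (H₂ := ⊤) π
    rw [map_top_of_surjective π fun g => ⟨⟨(g, c g), hc g⟩, rfl⟩] at this
    exact (pf.ge.trans this.ge) trivial
  have pf' : commutator (commutator (Gm R)) = ⊤ := by
    refine map_injective (subtype_injective _) ?_
    rw [map_subtype_commutator, ← MonoidHom.range_eq_map, range_subtype]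
    refine le_antisymm (commutator_le_left _ _) (commutator_le.2 fun a _ b _ => ?_)
    obtain ⟨a', ha, ea⟩ := s1 (π a)
    obtain ⟨b', hb, eb⟩ := s1 (π b)
    have h1 := (k (a'⁻¹ * a) (by simp [ea])).2
    have h2 := (k (b'⁻¹ * b) (by simp [eb])).2
    rw [← mul_inv_cancel_left a' a, ← mul_inv_cancel_left b' b]
    generalize a'⁻¹ * a = y at *
    generalize b'⁻¹ * b = z at *
    convert commutator_mem_commutator ha hb using 1
    rw [commutatorElement_def, commutatorElement_def, mul_inv_rev, mul_inv_rev, mul_assoc a', ← h1, ← mul_assoc a',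
      mul_assoc _ y, mul_inv_cancel_left, mul_assoc _ _ a'⁻¹, mul_assoc b', ← h2]
    group
  let e := Shrink.mulEquiv.{v} (α := commutator (Gm R))
  let τ := (π.comp (commutator _).subtype).comp e.toMonoidHom
  have sj : Function.Surjective τ := fun g => let ⟨x, m, h⟩ := s1 g; ⟨e.symm ⟨x, m⟩, by simpa [τ] using h⟩
  obtain ⟨f, hf⟩ := h.2 _ τ ⟨sj, fun x hx => mem_center_iff.2 fun y => e.injective (Subtype.ext (by
    simpa using (k _ hx).2 (e y))), le_top.trans (by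
      have := map_commutator (H₁ := ⊤) (H₂ := ⊤) e.symm.toMonoidHom
      rw [map_top_of_surjective _ e.symm.surjective, ← _root_.commutator_def, pf', map_top_of_surjective _ e.symm.surjective] at this
      exact this.le)⟩
  have ij : Function.Injective τ := (injective_iff_map_eq_one τ).2 fun x hx => by
    obtain ⟨y, hy⟩ := hf ⟨x, hx⟩
    have h1 : x ^ m = 1 := by
      have : y ^ m = 1 := Multiplicative.toAdd.injective (by simp)
      simpa [hy] using congrArg (fun y => (f y).1) this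
    obtain ⟨n, rfl⟩ := o
    rwa [pow_succ, pow_mul, pow_two, show x * x = 1 from e.injective (Subtype.ext (by simpa using (k _ hx).1)), one_pow, one_mul] at h1
  let i := MulEquiv.ofBijective τ ⟨ij, sj⟩
  refine ⟨⟨(((MonoidHom.snd _ _).comp (Gm R).subtype).comp (commutator _).subtype).comp (e.toMonoidHom.comp i.symm.toMonoidHom),
    fun g => ?_⟩⟩
  obtain ⟨x, rfl⟩ := i.surjective g
  simp only [MonoidHom.comp_apply, MulEquiv.coe_toMonoidHom, MulEquiv.symm_apply_apply]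
  exact (e x).1.2

theorem fix4 {M : Type u} [AddCommGroup M] [Module K M] [FiniteDimensional K M] (h2 : (2 : K) ≠ 0) {a b : Au K M}
    (ha : ∀ x, a (a x) = x) (hb : ∀ x, b (b x) = x) (c : ∀ x, a (b x) = b (a x)) :
    finrank K (fix a) + finrank K (fix b) + finrank K (fix (a * b)) = finrank K M + 2 * finrank K ↥(fix a ⊓ fix b) := by
  have s0 := split h2 (W := ⊤) fun x _ => ⟨trivial, ha x⟩
  have s1 := split h2 (W := Ng a) fun x h => ⟨mem_Ng.2 (by rw [c, mem_Ng.1 h, map_neg]), hb x⟩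
  have s2 := split h2 (W := fix b) fun x h => ⟨mem_fix.2 (by rw [← c, mem_fix.1 h]), ha x⟩
  have s3 := split h2 (W := fix (a * b)) fun x h => ⟨mem_fix.2 (by
    rw [LinearEquiv.mul_apply, ← c]; exact congrArg a (mem_fix.1 h)), ha x⟩
  rw [top_inf_eq, top_inf_eq, finrank_top] at s0
  rw [inf_comm, inf_comm (fix b)] at s2
  rw [show fix (a * b) ⊓ fix a = fix a ⊓ fix b from Submodule.ext fun x => by
      simp only [Submodule.mem_inf, mem_fix, LinearEquiv.mul_apply]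
      exact ⟨fun h => ⟨h.2, a.injective (h.1.trans h.2.symm)⟩, fun h => ⟨by rw [h.2, h.1], h.1⟩⟩,
    show fix (a * b) ⊓ Ng a = Ng a ⊓ Ng b from Submodule.ext fun x => by
      simp only [Submodule.mem_inf, mem_fix, mem_Ng, LinearEquiv.mul_apply]
      exact ⟨fun h => ⟨h.2, a.injective (by rw [h.1, map_neg, h.2, neg_neg])⟩, fun h => ⟨by rw [h.2, map_neg, h.1, neg_neg], h.1⟩⟩] at s3
  omega

theorem A4.yi {t y : G} (h : A4 t y) : y⁻¹ = y * y := inv_eq_of_mul_eq_one_left (by rw [← h.y3, pow_three'])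
theorem sq_cj {t : G} (h : t * t = 1) (y : G) : y * t * y⁻¹ * (y * t * y⁻¹) = 1 := by
  rw [_root_.conj_mul, h, mul_one, mul_inv_cancel]
theorem cm_of_sq {s t : G} (hs : s * s = 1) (ht : t * t = 1) (h : s * t * (s * t) = 1) : s * t = t * s := by
  rw [← inv_eq_of_mul_eq_one_left h, mul_inv_rev, inv_eq_of_mul_eq_one_left hs, inv_eq_of_mul_eq_one_left ht]
theorem A4.cm {t y : G} (h : A4 t y) : t * (y * t * y⁻¹) = y * t * y⁻¹ * t :=
  cm_of_sq h.tt (sq_cj h.tt y) (by simpa [h.rel] using sq_cj h.tt y⁻¹)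

section
variable {R : Rp K G} (T : R.Sg) {z z' g : G}

theorem σσ (h : z * z = 1) (s : S K) : T.σ z (T.σ z s) = s := by rw [← ap_mul, h, map_one]; rfl
theorem σ_cm (h : g * z = z * g) {s : S K} (hs : s ∈ T.U z) : T.σ g s ∈ T.U z :=
  mem_fix.2 (by rw [← ap_mul, ← h, ap_mul, mem_fix.1 hs])
theorem σ_red (H : Subgroup G) (h : H = ⊤) {s : S K} (s0 : s ≠ 0) (l : H ≤ Fs T.σ (K ∙ s)) : R.Red :=
  T.red s0 fun g => (h.ge.trans l) trivial s (Submodule.mem_span_singleton_self s)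
theorem mem_Fs {s : S K} : g ∈ Fs T.σ (K ∙ s) ↔ T.σ g s = s :=
  ⟨fun h => h s (Submodule.mem_span_singleton_self s), fun h x m => by
    obtain ⟨c, rfl⟩ := Submodule.mem_span_singleton.1 m; rw [map_smul, h]⟩

theorem wd1 (h : z * z = 1) (r : R.r z = 4) : finrank K (T.U z) = 4 := by
  have := (lift_inv R.two (R.iso z) (by rw [← map_mul, h, map_one]) r (T.lift z)).2
  have := rk_add_fix (T.σ z)
  rw [finrank_S] at this
  unfold Rp.Sg.U; omega
theorem wd1' (h : z * z = 1) : (CForm.ofQuad (Nm K)).NondegOn (T.U z) := nd_fix' R.two Nm_nd (T.lift z).orth (σσ T h)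
theorem wd2 (h : z * z = 1) (h' : z' * z' = 1) (c : z * z' = z' * z) (r : R.r z = 4) (r' : R.r z' = 4) (r'' : R.r (z * z') = 4) :
    finrank K ↥(T.U z ⊓ T.U z') = 2 := by
  have := fix4 R.two (σσ T h) (σσ T h') fun x => by rw [← ap_mul, c, ap_mul]
  have h1 := wd1 T h r
  have h2 := wd1 T h' r'
  have h3 := wd1 T (by rw [mul_assoc, ← mul_assoc z', ← c, mul_assoc, h', mul_one, h]) r''
  rw [← map_mul, finrank_S] at this
  unfold Rp.Sg.U at *; omega
theorem wd2' (h : z * z = 1) (h' : z' * z' = 1) (c : z * z' = z' * z) : (CForm.ofQuad (Nm K)).NondegOn (T.U z ⊓ T.U z') :=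
  nd_fix R.two (wd1' T h) (T.lift z').orth fun x m => ⟨σ_cm T c.symm m, σσ T h' x⟩
theorem wdA {t w : G} (a : A4 t w) (r : R.r t = 4) : finrank K ↥(T.U t ⊓ T.U (w * t * w⁻¹)) = 2 :=
  wd2 T a.tt (sq_cj a.tt w) (A4.cm a) r ((R.r_conj _ _).trans r) (by rw [a.rel, ← r, ← R.r_conj w⁻¹ t, inv_inv])

theorem wd3 [IsAlgClosed K] [Finite G] (tr : TR.{u, v}) (ak : AK.{u, v}) {t w : G} (a : A4 t w) (r : R.r t = 4) :
    T.U t ⊓ T.U (w * t * w⁻¹) ≤ fix (T.σ w) := by
  obtain ⟨b, l, b3, rb⟩ := u3a tr R a.y3 (.inl ((ak K G R).1 t w a r).1)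
  obtain rfl := (ex_odd R (by decide) a.y3).unique ⟨l, b3⟩ ⟨T.lift w, by rw [← map_pow, a.y3, map_one]⟩
  have h0 := rk_add_fix (T.σ w)
  have h1 := wdA T a r
  have h2 := split R.two (W := T.U t) fun x m => ⟨σ_cm T (A4.cm a).symm m, σσ T (sq_cj a.tt w) x⟩
  rw [wd1 T a.tt r, show finrank K ↥(T.U t ⊓ fix _) = 2 from h1] at h2
  let f := ((1 + (T.σ t : End K (S K))) * (1 - (T.σ (w * t * w⁻¹) : End K (S K)))).domRestrict (fix (T.σ w))
  have hf : ∀ x, f x = x - T.σ (w * t * w⁻¹) x + (T.σ t x - T.σ (w⁻¹ * t * w) x) := fun x => by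
    rw [← a.rel, ap_mul _ t]; simp [f]
  have h3 := f.finrank_range_add_finrank_ker
  have h4 : LinearMap.range f ≤ T.U t ⊓ Ng (T.σ (w * t * w⁻¹)) := by
    rintro _ ⟨x, rfl⟩
    rw [hf, ← a.rel]
    exact ⟨mem_fix.2 (by simp only [map_add, map_sub, ap_mul _ t, σσ T a.tt]; abel), mem_Ng.2 (by
      simp only [map_add, map_sub, σσ T (sq_cj a.tt w), A4.cm a, ap_mul _ _ t]; abel)⟩
  have h5 : (LinearMap.ker f).map (Submodule.subtype _) ≤ T.U t ⊓ T.U (w * t * w⁻¹) ⊓ fix (T.σ w) := by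
    rintro _ ⟨⟨x, m⟩, k, rfl⟩
    have e := mem_fix.1 m
    have e' : T.σ w⁻¹ x = x := by rw [← e, ap_inv, e]
    have k := (hf _).symm.trans k
    have k' := congrArg (T.σ w) k
    simp only [ap_mul, e, e', map_add, map_sub, ap_inv', map_zero] at k k'
    rw [← ap_mul _ w w, ← A4.yi a] at k'
    have : T.σ w⁻¹ (T.σ t x) = x := (eq_zero_of_neg R.two (x := x - _) (by
      linear_combination (norm := module) k + k') |> sub_eq_zero.1).symm
    have h : T.σ t x = x := by rw [← ap_inv' T.σ w (T.σ t x), this, e]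
    exact ⟨⟨mem_fix.2 h, mem_fix.2 (by simp only [Submodule.subtype_apply, ap_mul, e', h, e])⟩, m⟩
  have := Submodule.finrank_mono h4
  have := Submodule.finrank_mono h5
  rw [Submodule.finrank_map_subtype_eq, finrank_S] at *
  exact inf_eq_left.1 (Submodule.eq_of_le_of_finrank_le inf_le_left (by omega))

theorem tr0 (h : z * z = 1) (r : R.r z = 4) : LinearMap.trace K _ (T.σ z : End K (S K)) = 0 := by
  have := (show LinearMap.IsProj (T.U z) ((2 : K)⁻¹ • (1 + (T.σ z : End K (S K)))) from ⟨fun x => Submodule.smul_mem _ _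
    (mem_fix.2 (by simp [σσ T h, add_comm])), fun x m => by simp [mem_fix.1 m, ← two_smul K, R.two]⟩).trace
  rw [wd1 T h r, map_smul, map_add, LinearMap.trace_one, finrank_S, smul_eq_mul, inv_mul_eq_iff_eq_mul₀ R.two] at this
  push_cast at this
  linear_combination this
end

theorem wd (tr : TR.{u, v}) (ak : AK.{u, v}) : WD.{u, v} := by
  intro K _ _ G _ _ R T
  refine ⟨fun z h r => ⟨wd1 T h r, wd1' T h⟩, fun z z' h h' c r r' r'' => ⟨wd2 T h h' c r r' r'', wd2' T h h' c⟩,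
    fun t w a r s m => mem_fix.1 (wd3 T tr ak a r m), fun E c h cj gen => ?_⟩
  have r := (((e2 K G R).2.2 E h).2.2 cj).2 c |>.1
  have := Fintype.ofFinite E
  obtain ⟨s, s0⟩ : ∃ s, (∑ e : E, (T.σ e : End K (S K))) s ≠ 0 := by
    by_contra! k
    have := congrArg (LinearMap.trace K _) (LinearMap.ext k : _ = (0 : End K (S K)))
    rw [map_sum, Fintype.sum_eq_single (1 : E) fun e e1 => tr0 T (h e e.2) (r e e.2 fun k => e1 (Subtype.ext k)), map_zero,
      OneMemClass.coe_one, map_one, LinearEquiv.coe_toLinearMap_one, LinearMap.trace_id, finrank_S] at this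
    exact pow_ne_zero 3 R.two (by push_cast at this; linear_combination this)
  have k : ∀ e ∈ E, T.σ e ((∑ e : E, (T.σ e : End K (S K))) s) = (∑ e : E, (T.σ e : End K (S K))) s := fun e m => by
    simp only [LinearMap.sum_apply, map_sum, LinearEquiv.coe_coe, ← ap_mul]
    exact Fintype.sum_equiv (Equiv.mulLeft ⟨e, m⟩) _ _ fun _ => rfl
  exact σ_red T _ gen s0 (sup_le (fun e m => (mem_Fs T).2 (k e m)) ((closure_le _).2 fun w ⟨t, m, m', a⟩ =>
    (mem_Fs T).2 (mem_fix.1 (wd3 T tr ak a (r t m a.t1) ⟨mem_fix.2 (k _ m), mem_fix.2 (k _ m')⟩))))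

theorem Ls_inj {s : S K} (h2 : (2 : K) ≠ 0) (h : Nm K s ≠ 0) : Function.Injective (L.flip s) :=
  (injective_iff_map_eq_zero _).2 fun x e => Q_nd h2 x fun y => by
    have := polar_LL x y s
    rw [show L x s = 0 from e, polar_zero_left] at this
    exact neg_eq_zero.1 ((mul_eq_zero.1 this.symm).resolve_right h)

theorem Ls_ne {s : S K} (h2 : (2 : K) ≠ 0) (h : Nm K s ≠ 0) (x : V K) : L x s ≠ s := fun e => by
  have := polar_L_self x s
  rw [e, polar_self'] at this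
  exact mul_ne_zero h2 h this

theorem nrm_top {F : Type} [Field F] [Fintype F] (h : 4 ≤ Fintype.card F) (N : Subgroup SL(2, F)) [N.Normal]
    {a b : SL(2, F)} (m : a ∈ N) (e : b * a ≠ a * b) : N = ⊤ :=
  eq_top_iff.2 ((H11.sl2_perfect h).ge.trans ((H29.BB.normal_cases N).resolve_left fun l => e (mem_center_iff.1 (l m) b)))

theorem kt : KT.{u, v} := by
  intro K _ _ G _ _ R T F _ _ φ z o h5 hz z1 l
  subst hz
  obtain ⟨i, j, ii, jj, q⟩ := ex_qu φ z1
  have r := R.qu q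
  have iU : ∀ a, ∀ s ∈ T.U (φ (-1)), T.σ (φ a) s ∈ T.U (φ (-1)) := fun a s => σ_cm T (by rw [← map_mul, ← map_mul]; simp)
  have big : ∀ X ≤ T.U (φ (-1)), (CForm.ofQuad (Nm K)).NondegOn X → (∀ v ∈ fix (R.ρ (φ (-1))), ∀ s ∈ X, L v s ∈ X) →
      X = ⊥ ∨ X = T.U (φ (-1)) := fun X le nd h => or_iff_not_imp_left.2 fun X0 => by
    obtain ⟨s, m, n⟩ := exists_nonsingular nd X0
    have := Submodule.finrank_lt_finrank_of_lt (show (fix (R.ρ (φ (-1)))).map (L.flip s) < X from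
      SetLike.lt_iff_le_and_exists.2 ⟨by rintro _ ⟨v, hv, rfl⟩; exact h v hv s m, s, m, fun ⟨v, _, e⟩ => Ls_ne R.two n v e⟩)
    rw [← (Submodule.equivMapOfInjective _ (Ls_inj R.two n) _).finrank_eq] at this
    have := R.fr_fix (φ (-1))
    exact Submodule.eq_of_le_of_finrank_le le (by rw [wd1 T q.zz r]; omega)
  have pm : ∀ a, a * a = -1 → (∀ s ∈ T.U (φ (-1)), T.σ (φ a) s = s) ∨ ∀ s ∈ T.U (φ (-1)), T.σ (φ a) s = -s := fun a e => by
    have h : ∀ s ∈ T.U (φ (-1)), T.σ (φ a) s ∈ T.U (φ (-1)) ∧ T.σ (φ a) (T.σ (φ a) s) = s := fun s m =>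
      ⟨iU a s m, by rw [← ap_mul, ← map_mul, e, mem_fix.1 m]⟩
    have c : ∀ v ∈ fix (R.ρ (φ (-1))), ∀ s, T.σ (φ a) (L v s) = L v (T.σ (φ a) s) := fun v m s => by
      rw [(T.lift _).1, (R.mem_Tp.1 (l ⟨a, rfl⟩)).2 v (mem_fix.1 m)]
    have c' : ∀ v ∈ fix (R.ρ (φ (-1))), ∀ s ∈ T.U (φ (-1)), L v s ∈ T.U (φ (-1)) := fun v m s k =>
      mem_fix.2 (by rw [(T.lift _).1, mem_fix.1 m, mem_fix.1 k])
    rcases big _ inf_le_left (nd_fix R.two (wd1' T q.zz) (T.lift _).orth h) (fun v m s k =>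
      ⟨c' v m s k.1, mem_fix.2 (by rw [c v m, mem_fix.1 k.2])⟩) with k | k
    · exact .inr fun s m => eq_neg_of_add_eq_zero_right (k.le ⟨add_mem m (h s m).1, mem_fix.2 (by rw [map_add, (h s m).2, add_comm])⟩)
    · exact .inl fun s m => mem_fix.1 (k.ge m).2
  have : ((Fs T.σ (T.U (φ (-1)))).comap φ).Normal := ⟨fun a h g s m => by
    rw [map_mul φ, map_mul φ, ap_mul, ap_mul, h _ (iU _ s m), map_inv, ap_inv']⟩
  have f : ∀ a b, b * a ≠ a * b → (∀ s ∈ T.U (φ (-1)), T.σ (φ a) s = s) → ∀ a, ∀ s ∈ T.U (φ (-1)), T.σ (φ a) s = s := fun a b e h g =>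
    (nrm_top (by omega) ((Fs T.σ (T.U (φ (-1)))).comap φ) h e).ge (mem_top g)
  have n : i * j ≠ j * i := fun e => z1 (by have := q.ij; rwa [← map_mul, e, map_mul, right_eq_mul] at this)
  exact (pm i ii).elim (f i j n.symm) fun h1 => (pm j jj).elim (f j i n) fun h2 => f (i * j) i
    (fun e => n (mul_left_cancel (e.trans (mul_assoc _ _ _)))) fun s m => by rw [map_mul, ap_mul, h2 s m, map_neg, h1 s m, neg_neg]

theorem ex_ne {M : Type u} [AddCommGroup M] [Module K M] [FiniteDimensional K M] {W : Submodule K M} (h : 1 ≤ finrank K W) :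
    ∃ x ∈ W, x ≠ 0 := (Submodule.ne_bot_iff _).1 (Submodule.one_le_finrank_iff.1 h)

theorem rs (r1 : R1.{u}) : RS.{u, v} := by
  intro K _ _ G _ _ R T F₁ F₂ _ _ _ _ φ₁ φ₂ z w w' o h5 e1 e2 z1 rel l h
  obtain ⟨i, j, -, -, q⟩ := ex_qu φ₁ (e1 ▸ z1)
  rw [e1] at q
  have r := R.qu q
  have c := cm_of_sq q.zz (sq_cj q.zz w) (rel ▸ sq_cj q.zz w')
  have d := wd2 T q.zz (sq_cj q.zz w) c r ((R.r_conj _ _).trans r) (by rw [rel, R.r_conj, r])
  have k := kt K G R T F₁ φ₁ z o h5 e1 z1 l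
  have k' : ∀ w, φ₁.range.map (MulAut.conj w).toMonoidHom ≤ Fs T.σ (T.U (w * z * w⁻¹)) := by
    rintro w _ ⟨_, ⟨a, rfl⟩, rfl⟩ s m
    exact mem_fix.1 ((fix_cj T.σ).2 (mem_fix.2 (k a _ ((fix_cj T.σ).1 m))))
  have N : Nq φ₁.range w w' ≤ Fs T.σ (T.U z ⊓ T.U (w * z * w⁻¹)) := sup_le (sup_le (by rintro _ ⟨a, rfl⟩ s m; exact k a s m.1)
    fun g hg s m => k' w hg s m.2) fun g hg s m => k' w' hg s (mem_fix.2 (by rw [← rel, ap_mul, mem_fix.1 m.2, mem_fix.1 m.1]))
  rcases h with h | ⟨h1, h2, h3, h4⟩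
  · obtain ⟨s, m, s0⟩ := ex_ne (d ▸ one_le_two)
    exact σ_red T _ h s0 fun g hg => (mem_Fs T).2 (N hg s m)
  obtain ⟨s, m, s0, h⟩ := r1 K F₂ (T.σ.comp φ₂) _ _ R.two h1 h2 (fun a => (T.lift _).orth) (wd1 T q.zz r) (wd1' T q.zz) inf_le_left d
    (wd2' T q.zz (sq_cj q.zz w) c) (fun a s => σ_cm T (by rw [← e2, ← map_mul, ← map_mul]; simp))
    (fun s m => by rw [← e2] at m; exact mem_fix.1 m) fun a => N (h3 a)
  exact σ_red T _ h4 s0 (sup_le (fun g hg => (mem_Fs T).2 (N hg s m)) (by rintro _ ⟨a, rfl⟩; exact (mem_Fs T).2 (h a)))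

theorem dt (tr : TR.{u, v}) (ak : AK.{u, v}) : DT.{u, v} := by
  intro K _ _ G _ _ R T z z' w n d k D a hz n2 nz ii dz hd kz hk hD hD' gen
  have zz := a.tt
  have z2 : z' * z' = 1 := hz ▸ sq_cj zz w
  have c : z * z' = z' * z := hz ▸ A4.cm a
  have jj : k * (z' * n) * k⁻¹ * (k * (z' * n) * k⁻¹) = z := by rw [_root_.conj_mul, ii, kz.eq, mul_inv_cancel_right]
  have ij : z' * n * (k * (z' * n) * k⁻¹) * (z' * n * (k * (z' * n) * k⁻¹)) = z := by
    rw [← hk, _root_.conj_mul, jj, kz.eq, mul_inv_cancel_right]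
  have r := R.qu (z := z) ⟨ii, jj, by
    generalize k * (z' * n) * k⁻¹ = j at *
    generalize z' * n = i at *
    have : j * (z * j) = z * z := by rw [← jj]; simp only [mul_assoc]
    exact mul_right_cancel (b := i * j) (by rw [ij, mul_assoc, mul_assoc, ← mul_assoc i, ii, this, zz, mul_one]), zz, a.t1⟩
  have d1 : finrank K ↥(T.U z ⊓ T.U z') = 2 := hz ▸ wdA T a r
  have ez : d * z * d⁻¹ = z := by rw [dz.eq, mul_inv_cancel_right]
  have d2 : finrank K ↥(T.U z ⊓ T.U (d * z' * d⁻¹)) = 2 := wd2 T zz (sq_cj z2 d)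
    (by rw [← ez, _root_.conj_mul, c, _root_.conj_mul]) r (by rw [R.r_conj, hz, R.r_conj, r])
    (by rw [← ez, _root_.conj_mul, R.r_conj, hz, a.rel, ← r, ← R.r_conj w⁻¹ z, inv_inv])
  have en : ∀ s ∈ T.U z, T.σ (d * z' * d⁻¹) s = T.σ n s := fun s m => hd.elim (by rintro rfl; rfl) fun e => by
    rw [e, ← nz.eq, ap_mul, mem_fix.1 m]
  have hw : ∀ s ∈ T.U z ⊓ T.U z', T.σ w s = s := fun s m => mem_fix.1 (wd3 T tr ak a r (hz ▸ m))
  have DW : D ≤ Fs T.σ (T.U z ⊓ T.U z') := fun t m s k => by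
    obtain ⟨t', m', rfl⟩ := hD' t m
    have := hD _ (inv_mem m')
    rw [ap_mul, (Fs T.σ _).inv_mem hw s k, ap_mul, ap_mul, hw _ ⟨σ_cm T this.1 k.1, σ_cm T this.2 k.2⟩, ap_inv']
  by_cases h : T.U z ⊓ T.U z' ⊓ (T.U z ⊓ T.U (d * z' * d⁻¹)) = ⊥
  · have e := Submodule.finrank_sup_add_finrank_inf_eq (T.U z ⊓ T.U z') (T.U z ⊓ T.U (d * z' * d⁻¹))
    rw [h, finrank_bot, d1, d2] at e
    have nU : ∀ s ∈ T.U z, T.σ z' (T.σ n s) = T.σ n (T.σ z' s) := fun s m => by
      rw [← ap_mul, ← ap_mul, show z' * n = n * z' * z by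
        rw [← ii, mul_assoc n, ← mul_assoc z', ← mul_assoc z', z2, one_mul, ← mul_assoc, ← mul_assoc, n2, one_mul],
        ap_mul _ _ z, mem_fix.1 m]
    have h1 : ∀ s ∈ T.U z, T.σ (z' * n) s = -s := fun s m => by
      obtain ⟨x, hx, y, hy, rfl⟩ := Submodule.mem_sup.1 ((Submodule.eq_of_le_of_finrank_le (sup_le inf_le_left inf_le_left)
        ((wd1 T zz r).trans e.symm).le).ge m)
      have mx := add_mem hx.1 (σ_cm T nz hx.1)
      have my := add_mem hy.1 (σ_cm T c.symm hy.1)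
      have ey := (en y hy.1).symm.trans (mem_fix.1 hy.2)
      have e1 := eq_neg_of_add_eq_zero_right (h.le ⟨⟨mx, mem_fix.2 (by rw [map_add, nU x hx.1, mem_fix.1 hx.2])⟩, mx,
        mem_fix.2 (by rw [en _ mx, map_add, σσ T n2, add_comm])⟩)
      have e2 := eq_neg_of_add_eq_zero_right (h.le ⟨⟨my, mem_fix.2 (by rw [map_add, σσ T z2, add_comm])⟩, my,
        mem_fix.2 (by rw [en _ my, map_add, ← nU y hy.1, ey])⟩)
      rw [ap_mul, map_add, map_add, e1, ey, e2, map_neg, mem_fix.1 hx.2, neg_add]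
    have h2 : ∀ i, (∀ s ∈ T.U z, T.σ i s = -s) → ∀ s ∈ T.U z, T.σ (k * i * k⁻¹) s = -s := fun i h s m => by
      rw [ap_mul, ap_mul, h _ (σ_cm T kz.inv_left m), map_neg, ap_inv']
    obtain ⟨s, m, s0⟩ := ex_ne (W := T.U z) (by rw [wd1 T zz r]; omega)
    have := h2 _ (h2 _ h1) s m
    rw [hk, ap_mul _ (z' * n), h2 _ h1 s m, map_neg, h1 s m, neg_neg] at this
    exact absurd (eq_zero_of_neg R.two this) s0
  obtain ⟨s, ⟨m, m'⟩, s0⟩ := (Submodule.ne_bot_iff _).1 h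
  refine σ_red T _ gen s0 (sup_le (sup_le (fun g k => (mem_Fs T).2 (DW k s m)) ((closure_le _).2 (Set.pair_subset
    ((mem_Fs T).2 (hw s m)) ((mem_Fs T).2 ((en s m.1).symm.trans (mem_fix.1 m'.2)))))) ?_)
  rintro _ ⟨t, k, rfl⟩
  exact (mem_Fs T).2 (mem_fix.1 ((fix_cj T.σ).2 (mem_fix.2 (DW k _ ⟨σ_cm T dz.inv_left m.1, (fix_cj T.σ).1 m'.2⟩))))

end H10.O7
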